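import Cfsg.Agent.H679.EPX.No26
import Cfsg.Agent.LieClassical.OrthCenter
import Cfsg.Agent.LieClassical.OmegaReindex
import Cfsg.Agent.S0816

/-!
# `Ω₇(3)` in `²E₆(2)`: an almost simple subgroup with this socle equals its socle (S5745, row `te6.2.O7(3)`)

The automorphism group of `Ω₇(3)` contains it with index two; the conjugation by `diag(1, -1, …, -1)` is an
involution commuting with an element of order 13, there are no elements of order 26 in `²E₆(2)`.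
-/

set_option autoImplicit false

namespace Cfsg.Agent.H679.EPX

section Abs

variable {G : Type*} [Group G]

/-- conjugation by an element of the normalizer -/
def cj (N : Subgroup G) (g : G) (h : ∀ k ∈ N, g * k * g⁻¹ ∈ N) (h' : ∀ k ∈ N, g⁻¹ * k * g ∈ N) : MulAut N where
  toFun k := ⟨g * k * g⁻¹, h k k.2⟩
  invFun k := ⟨g⁻¹ * k * g, h' k k.2⟩
  left_inv k := Subtype.ext (by show g⁻¹ * (g * k * g⁻¹) * g = k; group)
  right_inv k := Subtype.ext (by show g * (g⁻¹ * k * g) * g⁻¹ = k; group)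
  map_mul' a b := Subtype.ext (by show g * (a * b) * g⁻¹ = g * a * g⁻¹ * (g * b * g⁻¹); group)

/-- **The abstract step.** -/
theorem abs_eq [Finite G] {H N : Subgroup G} (hNH : N ≤ H) (hn : ∀ g ∈ H, ∀ k ∈ N, g * k * g⁻¹ ∈ N)
    (hc : Subgroup.centralizer (N : Set G) = ⊥) (hA : Nat.card (MulAut N) = 2 * Nat.card N) (β : MulAut N)
    (hβ : β ≠ 1) (hkill : ∀ g : G, (∀ k : N, g * k * g⁻¹ = (β k : G)) → g = 1) : H = N := by
  have hcen : ∀ g : G, (∀ k : N, g * k * g⁻¹ = (k : G)) → g = 1 := by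
    intro g hg
    rw [← Subgroup.mem_bot, ← hc, Subgroup.mem_centralizer_iff]
    intro k hk
    have h1 := hg ⟨k, hk⟩
    simp only at h1
    calc k * g = g * k * g⁻¹ * g := by rw [h1]
      _ = g * k := by group
  have hinj : Function.Injective (MulAut.conj : N →* MulAut N) := by
    rw [injective_iff_map_eq_one]
    intro t ht
    apply Subtype.ext
    refine hcen t fun k => ?_
    have h1 := congrArg (fun f : MulAut N => ((f k : N) : G)) ht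
    exact h1
  have hidx : (MulAut.conj : N →* MulAut N).range.index = 2 := by
    have h1 := (MulAut.conj : N →* MulAut N).range.card_mul_index
    have h2 : Nat.card (MulAut.conj : N →* MulAut N).range = Nat.card N :=
      Nat.card_congr (MonoidHom.ofInjective hinj).toEquiv.symm
    rw [h2, hA, mul_comm 2] at h1
    exact Nat.eq_of_mul_eq_mul_left Nat.card_pos h1
  have hβr : β ∉ (MulAut.conj : N →* MulAut N).range := by
    rintro ⟨t, ht⟩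
    apply hβ
    have h1 : (t : G) = 1 := by
      refine hkill t fun k => ?_
      rw [← ht]
      rfl
    rw [← ht, Subtype.ext (a1 := t) (a2 := 1) h1, map_one]
  refine le_antisymm (fun g hg => ?_) hNH
  by_contra hgN
  have h' : ∀ k ∈ N, g⁻¹ * k * g ∈ N := by
    intro k hk
    have := hn g⁻¹ (H.inv_mem hg) k hk
    rwa [inv_inv] at this
  have hα : cj N g (hn g hg) h' ∉ (MulAut.conj : N →* MulAut N).range := by
    rintro ⟨t, ht⟩
    apply hgN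
    have h1 : (t : G)⁻¹ * g = 1 := by
      refine hcen _ fun k => ?_
      have h2 : (t : G) * k * (t : G)⁻¹ = g * k * g⁻¹ := congrArg (fun f : MulAut N => ((f k : N) : G)) ht
      calc (t : G)⁻¹ * g * k * ((t : G)⁻¹ * g)⁻¹ = (t : G)⁻¹ * (g * k * g⁻¹) * t := by group
        _ = k := by rw [← h2]; group
    rw [inv_mul_eq_one] at h1
    rw [← h1]
    exact t.2
  have h3 : (cj N g (hn g hg) h')⁻¹ * β ∈ (MulAut.conj : N →* MulAut N).range := by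
    rw [Subgroup.mul_mem_iff_of_index_two hidx]
    exact iff_of_false (fun h => hα (by simpa using h)) hβr
  obtain ⟨t, ht⟩ := h3
  have h4 : β = cj N g (hn g hg) h' * MulAut.conj t := by rw [ht, mul_inv_cancel_left]
  have h5 : g * t = 1 := by
    refine hkill _ fun k => ?_
    rw [h4]
    show g * t * k * (g * t)⁻¹ = g * (t * k * (t : G)⁻¹) * g⁻¹
    group
  apply hgN
  rw [eq_inv_of_mul_eq_one_left h5]
  exact N.inv_mem t.2

end Abs

section Mat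

/-- the index set -/
abbrev I7 : Type := Unit ⊕ (Fin 3 ⊕ Fin 3)

/-- the numbering -/
def ix : I7 → Fin 7
  | .inl _ => 0
  | .inr (.inl i) => ![1, 2, 3] i
  | .inr (.inr i) => ![4, 5, 6] i

/-- the matrix of a table -/
def mk7 (M : Matrix (Fin 7) (Fin 7) (ZMod 3)) : Matrix I7 I7 (ZMod 3) := fun i j => M (ix i) (ix j)

/-- a table -/
def tA : Matrix (Fin 7) (Fin 7) (ZMod 3) := ![![1, 0, 0, 0, 0, 0, 0], ![0, 0, 0, 1, 0, 0, 0], ![0, 0, 1, 0, 0, 0, 0], ![0, 1, 0, 1, 0, 0, 0], ![0, 0, 0, 0, 2, 0, 1], ![0, 0, 0, 0, 0, 1, 0], ![0, 0, 0, 0, 1, 0, 0]]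

/-- its inverse -/
def tA1 : Matrix (Fin 7) (Fin 7) (ZMod 3) := ![![1, 0, 0, 0, 0, 0, 0], ![0, 2, 0, 1, 0, 0, 0], ![0, 0, 1, 0, 0, 0, 0], ![0, 1, 0, 0, 0, 0, 0], ![0, 0, 0, 0, 0, 0, 1], ![0, 0, 0, 0, 0, 1, 0], ![0, 0, 0, 0, 1, 0, 1]]

/-- a table -/
def tB : Matrix (Fin 7) (Fin 7) (ZMod 3) := ![![1, 0, 0, 0, 0, 0, 0], ![0, 0, 0, 1, 0, 0, 0], ![0, 1, 0, 0, 0, 0, 0], ![0, 0, 1, 0, 0, 0, 0], ![0, 0, 0, 0, 0, 0, 1], ![0, 0, 0, 0, 1, 0, 0], ![0, 0, 0, 0, 0, 1, 0]]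

/-- its inverse -/
def tB1 : Matrix (Fin 7) (Fin 7) (ZMod 3) := ![![1, 0, 0, 0, 0, 0, 0], ![0, 0, 1, 0, 0, 0, 0], ![0, 0, 0, 1, 0, 0, 0], ![0, 1, 0, 0, 0, 0, 0], ![0, 0, 0, 0, 0, 1, 0], ![0, 0, 0, 0, 0, 0, 1], ![0, 0, 0, 0, 1, 0, 0]]

/-- a reflection -/
def tR : Matrix (Fin 7) (Fin 7) (ZMod 3) := ![![2, 0, 0, 0, 2, 0, 0], ![1, 1, 0, 0, 2, 0, 0], ![0, 0, 1, 0, 0, 0, 0], ![0, 0, 0, 1, 0, 0, 0], ![0, 0, 0, 0, 1, 0, 0], ![0, 0, 0, 0, 0, 1, 0], ![0, 0, 0, 0, 0, 0, 1]]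

/-- a permutation -/
def tK : Matrix (Fin 7) (Fin 7) (ZMod 3) := ![![1, 0, 0, 0, 0, 0, 0], ![0, 0, 1, 0, 0, 0, 0], ![0, 1, 0, 0, 0, 0, 0], ![0, 0, 0, 1, 0, 0, 0], ![0, 0, 0, 0, 0, 1, 0], ![0, 0, 0, 0, 1, 0, 0], ![0, 0, 0, 0, 0, 0, 1]]

/-- the involution -/
def tZ : Matrix (Fin 7) (Fin 7) (ZMod 3) := ![![1, 0, 0, 0, 0, 0, 0], ![0, 2, 0, 0, 0, 0, 0], ![0, 0, 2, 0, 0, 0, 0], ![0, 0, 0, 2, 0, 0, 0], ![0, 0, 0, 0, 2, 0, 0], ![0, 0, 0, 0, 0, 2, 0], ![0, 0, 0, 0, 0, 0, 2]]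

/-- the Gram matrix -/
def tS : Matrix (Fin 7) (Fin 7) (ZMod 3) := ![![2, 0, 0, 0, 0, 0, 0], ![0, 0, 0, 0, 1, 0, 0], ![0, 0, 0, 0, 0, 1, 0], ![0, 0, 0, 0, 0, 0, 1], ![0, 1, 0, 0, 0, 0, 0], ![0, 0, 1, 0, 0, 0, 0], ![0, 0, 0, 1, 0, 0, 0]]

/-- the commutator of `tA` and `tB` -/
def tU : Matrix (Fin 7) (Fin 7) (ZMod 3) := ![![1, 0, 0, 0, 0, 0, 0], ![0, 0, 0, 1, 0, 0, 0], ![0, 1, 2, 0, 0, 0, 0], ![0, 0, 1, 1, 0, 0, 0], ![0, 0, 0, 0, 2, 2, 1], ![0, 0, 0, 0, 1, 0, 0], ![0, 0, 0, 0, 1, 1, 0]]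

/-- square -/
def tU2 : Matrix (Fin 7) (Fin 7) (ZMod 3) := ![![1, 0, 0, 0, 0, 0, 0], ![0, 0, 1, 1, 0, 0, 0], ![0, 2, 1, 1, 0, 0, 0], ![0, 1, 0, 1, 0, 0, 0], ![0, 0, 0, 0, 1, 2, 2], ![0, 0, 0, 0, 2, 2, 1], ![0, 0, 0, 0, 0, 2, 1]]

/-- square -/
def tU4 : Matrix (Fin 7) (Fin 7) (ZMod 3) := ![![1, 0, 0, 0, 0, 0, 0], ![0, 0, 1, 2, 0, 0, 0], ![0, 0, 0, 1, 0, 0, 0], ![0, 1, 1, 2, 0, 0, 0], ![0, 0, 0, 0, 2, 1, 0], ![0, 0, 0, 0, 0, 1, 1], ![0, 0, 0, 0, 1, 0, 0]]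

/-- square -/
def tU8 : Matrix (Fin 7) (Fin 7) (ZMod 3) := ![![1, 0, 0, 0, 0, 0, 0], ![0, 2, 2, 2, 0, 0, 0], ![0, 1, 1, 2, 0, 0, 0], ![0, 2, 0, 1, 0, 0, 0], ![0, 0, 0, 0, 1, 0, 1], ![0, 0, 0, 0, 1, 1, 1], ![0, 0, 0, 0, 2, 1, 0]]

/-- power -/
def tU12 : Matrix (Fin 7) (Fin 7) (ZMod 3) := ![![1, 0, 0, 0, 0, 0, 0], ![0, 2, 1, 1, 0, 0, 0], ![0, 2, 0, 1, 0, 0, 0], ![0, 1, 0, 0, 0, 0, 0], ![0, 0, 0, 0, 0, 1, 0], ![0, 0, 0, 0, 0, 2, 1], ![0, 0, 0, 0, 1, 0, 1]]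

/-- the commutator of `tR` and `tK` -/
def tW : Matrix (Fin 7) (Fin 7) (ZMod 3) := ![![1, 0, 0, 0, 2, 1, 0], ![2, 1, 0, 0, 2, 2, 0], ![1, 0, 1, 0, 0, 2, 0], ![0, 0, 0, 1, 0, 0, 0], ![0, 0, 0, 0, 1, 0, 0], ![0, 0, 0, 0, 0, 1, 0], ![0, 0, 0, 0, 0, 0, 1]]


open Matrix

/-- matrices preserving the Gram matrix are isometries -/
theorem isom_of {M : Matrix I7 I7 (ZMod 3)} (h : Mᵀ * mk7 tS * M = mk7 tS) (v : I7 → ZMod 3) :
    quadFormOdd 3 (ZMod 3) (M *ᵥ v) = quadFormOdd 3 (ZMod 3) v := by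
  have key : ∀ v : I7 → ZMod 3, quadFormOdd 3 (ZMod 3) v = 2 * (v ⬝ᵥ (mk7 tS *ᵥ v)) := by
    intro v
    simp only [quadFormOdd, dotProduct, mulVec, Fintype.sum_sum_type, Fin.sum_univ_three, Finset.univ_unique,
      Finset.sum_singleton, mk7, ix, tS]
    simp
    have h3 : (3 : ZMod 3) = 0 := by decide
    linear_combination (-(v (.inl ())) ^ 2 - v (.inr (.inl 0)) * v (.inr (.inr 0)) -
      v (.inr (.inl 1)) * v (.inr (.inr 1)) - v (.inr (.inl 2)) * v (.inr (.inr 2))) * h3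
  rw [key, key, dotProduct_mulVec, vecMul_mulVec, ← dotProduct_mulVec, mulVec_mulVec, h]

/-- the isometry of a matrix with its inverse -/
def iso (M M' : Matrix I7 I7 (ZMod 3)) (h1 : M * M' = 1) (h2 : M' * M = 1) (h : Mᵀ * mk7 tS * M = mk7 tS) :
    ↥(isometryGroup (ZMod 3) (quadFormOdd 3 (ZMod 3))) :=
  ⟨⟨M, M', h1, h2⟩, fun u _ => isom_of h u⟩

/-- the element `A` -/
def eA : ↥(isometryGroup (ZMod 3) (quadFormOdd 3 (ZMod 3))) :=
  iso (mk7 tA) (mk7 tA1) (by decide +kernel) (by decide +kernel) (by decide +kernel)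

/-- the element `B` -/
def eB : ↥(isometryGroup (ZMod 3) (quadFormOdd 3 (ZMod 3))) :=
  iso (mk7 tB) (mk7 tB1) (by decide +kernel) (by decide +kernel) (by decide +kernel)

/-- the reflection -/
def eR : ↥(isometryGroup (ZMod 3) (quadFormOdd 3 (ZMod 3))) :=
  iso (mk7 tR) (mk7 tR) (by decide +kernel) (by decide +kernel) (by decide +kernel)

/-- the permutation -/
def eK : ↥(isometryGroup (ZMod 3) (quadFormOdd 3 (ZMod 3))) :=
  iso (mk7 tK) (mk7 tK) (by decide +kernel) (by decide +kernel) (by decide +kernel)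

/-- the involution -/
def eZ : ↥(isometryGroup (ZMod 3) (quadFormOdd 3 (ZMod 3))) :=
  iso (mk7 tZ) (mk7 tZ) (by decide +kernel) (by decide +kernel) (by decide +kernel)

/-- the matrix of an isometry -/
def mt : ↥(isometryGroup (ZMod 3) (quadFormOdd 3 (ZMod 3))) →* Matrix I7 I7 (ZMod 3) :=
  (Units.coeHom _).comp (Subgroup.subtype _)

theorem mt_inj : Function.Injective mt := fun _ _ h => Subtype.ext (Units.ext h)

theorem mt_u : mt (eA * eB * eA⁻¹ * eB⁻¹) = mk7 tU := by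
  show mk7 tA * mk7 tB * mk7 tA1 * mk7 tB1 = mk7 tU
  have h1 : mk7 tA * mk7 tB * mk7 tA1 = mk7 tU * mk7 tB := by decide +kernel
  rw [h1, mul_assoc, show mk7 tB * mk7 tB1 = 1 by decide +kernel, mul_one]

theorem u_pow : (eA * eB * eA⁻¹ * eB⁻¹) ^ 13 = 1 := by
  apply mt_inj
  have h2 : mk7 tU ^ 2 = mk7 tU2 := by rw [sq]; decide +kernel
  have h4 : mk7 tU2 ^ 2 = mk7 tU4 := by rw [sq]; decide +kernel
  have h8 : mk7 tU4 ^ 2 = mk7 tU8 := by rw [sq]; decide +kernel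
  have h13 : mk7 tU ^ 13 = ((mk7 tU ^ 2) ^ 2) ^ 2 * (mk7 tU ^ 2) ^ 2 * mk7 tU := by
    rw [← pow_mul (mk7 tU) 2 2, ← pow_mul (mk7 tU) (2 * 2) 2, ← pow_add, ← pow_succ]
  rw [map_pow, mt_u, map_one, h13, h2, h4, h8, show mk7 tU8 * mk7 tU4 = mk7 tU12 by decide +kernel]
  decide +kernel

theorem u_ne : eA * eB * eA⁻¹ * eB⁻¹ ≠ 1 := by
  intro h
  have h1 := congrArg mt h
  rw [mt_u, map_one] at h1
  exact absurd h1 (by decide +kernel)

theorem z_sq : eZ * eZ = 1 := by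
  apply mt_inj
  rw [map_mul, map_one]
  show mk7 tZ * mk7 tZ = 1
  decide +kernel

theorem z_comm : eZ * (eA * eB * eA⁻¹ * eB⁻¹) = (eA * eB * eA⁻¹ * eB⁻¹) * eZ := by
  apply mt_inj
  rw [map_mul mt eZ, map_mul mt _ eZ, mt_u]
  show mk7 tZ * mk7 tU = mk7 tU * mk7 tZ
  decide +kernel

theorem z_ne : eZ * (eR * eK * eR⁻¹ * eK⁻¹) ≠ (eR * eK * eR⁻¹ * eK⁻¹) * eZ := by
  intro h
  have h1 := congrArg mt h
  rw [map_mul mt eZ, map_mul mt _ eZ] at h1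
  have h2 : mt (eR * eK * eR⁻¹ * eK⁻¹) = mk7 tW := by
    show mk7 tR * mk7 tK * mk7 tR * mk7 tK = mk7 tW
    rw [mul_assoc, show mk7 tR * mk7 tK * (mk7 tR * mk7 tK) = mk7 tW by decide +kernel]
  rw [h2] at h1
  have h3 : mk7 tZ * mk7 tW = mk7 tW * mk7 tZ := h1
  exact absurd h3 (by decide +kernel)

end Mat

open Cfsg.Agent.LieClassical.OmegaReindex (quadOdd coe_quadOdd quadOdd_nondegenerate)

theorem center_omega : Subgroup.center (Cfsg.Omega (ZMod 3) (Cfsg.quadFormOdd 3 (ZMod 3))) = ⊥ := by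
  classical
  have h2 : (2 : ZMod 3) ≠ 0 := by decide
  have h3 := Cfsg.Agent.LieClassical.OrthCenter.center_omega_eq_bot
    (quadOdd_nondegenerate (F := ZMod 3) (m := 3) h2) (by decide)
    ⟨Pi.single (.inr (.inl 0)) 1, by
      intro h
      have := congrFun h (.inr (.inl 0))
      rw [Pi.single_eq_same] at this
      exact one_ne_zero this, by
      rw [coe_quadOdd]
      unfold Cfsg.quadFormOdd
      rw [Fin.sum_univ_three]
      simp⟩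
    (by
      intro g hg h
      have h4 := Cfsg.Agent.LieClassical.OrthCenter.det_of_mem_omega g hg
      have h5 : Fintype.card (Unit ⊕ (Fin 3 ⊕ Fin 3)) = 7 := by decide
      rw [h, Matrix.det_neg, Matrix.det_one, h5] at h4
      apply h2
      linear_combination -h4)
  rwa [coe_quadOdd] at h3

/-- `PΩ₇(3) ≃ Ω₇(3)` -/
theorem exists_equiv : Nonempty (Cfsg.POmega (ZMod 3) (Cfsg.quadFormOdd 3 (ZMod 3)) ≃*
    Cfsg.Omega (ZMod 3) (Cfsg.quadFormOdd 3 (ZMod 3))) :=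
  ⟨(QuotientGroup.quotientMulEquivOfEq center_omega).trans QuotientGroup.quotientBot⟩

/-- **An almost simple subgroup of `²E₆(2)` with socle `Ω₇(3)` is `Ω₇(3)`.** -/
theorem eqN {K : Type*} [Field K] [Fintype K] (hK : Fintype.card K = 4) {G : Type*} [Group G] [Finite G]
    (eG : G ≃* ↥(Cfsg.Lie.twistedE6 K 2)) {H N : Subgroup G} (hNH : N ≤ H)
    (hn : ∀ g ∈ H, ∀ k ∈ N, g * k * g⁻¹ ∈ N) (hc : Subgroup.centralizer (N : Set G) = ⊥)
    (e : N ≃* Cfsg.POmega (ZMod 3) (Cfsg.quadFormOdd 3 (ZMod 3))) : H = N := by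
  obtain ⟨e0⟩ := exists_equiv
  have hpf : Fact (Nat.Prime 3) := ⟨Nat.prime_three⟩
  let e1 : N ≃* ↥(Cfsg.Omega (ZMod 3) (Cfsg.quadFormOdd 3 (ZMod 3))) := e.trans e0
  have hA : Nat.card (MulAut N) = 2 * Nat.card N := by
    have h := Cfsg.Agent.S0816.result (F := ZMod 3) 3 1 le_rfl (by simp [ZMod.card]) (by decide) 3 le_rfl
    rw [mul_one] at h
    rw [Nat.card_congr e.toEquiv, ← h]
    exact Nat.card_congr (MulAut.congr e).toEquiv
  let β : MulAut N := e1.trans ((MulAut.conjNormal eZ).trans e1.symm)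
  have hβ : ∀ k, e1 (β k) = MulAut.conjNormal eZ (e1 k) := fun k => e1.apply_symm_apply _
  have hu : eA * eB * eA⁻¹ * eB⁻¹ ∈ Cfsg.Omega (ZMod 3) (Cfsg.quadFormOdd 3 (ZMod 3)) :=
    Subgroup.commutator_mem_commutator (Subgroup.mem_top eA) (Subgroup.mem_top eB)
  have hw : eR * eK * eR⁻¹ * eK⁻¹ ∈ Cfsg.Omega (ZMod 3) (Cfsg.quadFormOdd 3 (ZMod 3)) :=
    Subgroup.commutator_mem_commutator (Subgroup.mem_top eR) (Subgroup.mem_top eK)
  refine abs_eq hNH hn hc hA β ?_ ?_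
  · intro h
    have h1 := hβ (e1.symm ⟨_, hw⟩)
    rw [h, MulAut.one_apply, MulEquiv.apply_symm_apply] at h1
    have h2 := congrArg Subtype.val h1
    rw [MulAut.conjNormal_apply] at h2
    apply z_ne
    calc eZ * (eR * eK * eR⁻¹ * eK⁻¹) = eZ * (eR * eK * eR⁻¹ * eK⁻¹) * eZ⁻¹ * eZ := by group
      _ = _ := by rw [← h2]
  · intro g hg
    have hg2 : g * g = 1 := by
      rw [← Subgroup.mem_bot, ← hc, Subgroup.mem_centralizer_iff]
      intro k hk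
      have h1 := hg ⟨k, hk⟩
      have h2 := hg (β ⟨k, hk⟩)
      have h3 : β (β ⟨k, hk⟩) = ⟨k, hk⟩ := by
        apply e1.injective
        rw [hβ, hβ, ← MulAut.mul_apply, ← map_mul, z_sq, map_one, MulAut.one_apply]
      rw [h3, ← h1] at h2
      simp only at h2
      calc k * (g * g) = g * (g * k * g⁻¹) * g⁻¹ * (g * g) := by rw [h2]
        _ = g * g * k := by group
    have hx : orderOf ((e1.symm ⟨_, hu⟩ : N) : G) = 13 := by
      have hp13 : Fact (Nat.Prime 13) := ⟨by norm_num⟩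
      rw [Subgroup.orderOf_coe, MulEquiv.orderOf_eq, ← Subgroup.orderOf_coe]
      exact orderOf_eq_prime u_pow u_ne
    have hcx : g * ((e1.symm ⟨_, hu⟩ : N) : G) = ((e1.symm ⟨_, hu⟩ : N) : G) * g := by
      have h1 := hg (e1.symm ⟨_, hu⟩)
      have h2 : β (e1.symm ⟨_, hu⟩) = e1.symm ⟨_, hu⟩ := by
        apply e1.injective
        rw [hβ, MulEquiv.apply_symm_apply]
        apply Subtype.ext
        rw [MulAut.conjNormal_apply]
        show eZ * (eA * eB * eA⁻¹ * eB⁻¹) * eZ⁻¹ = _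
        rw [z_comm, mul_inv_cancel_right]
      rw [h2] at h1
      calc _ = g * ((e1.symm ⟨_, hu⟩ : N) : G) * g⁻¹ * g := by group
        _ = _ := by rw [h1]
    have h5 := no26 hK (eG ((e1.symm ⟨_, hu⟩ : N) : G)) (eG g) (by rw [MulEquiv.orderOf_eq, hx])
      (by rw [← map_mul, hg2, map_one]) (by rw [← map_mul, ← map_mul, hcx])
    exact eG.injective (h5.trans (map_one eG).symm)

end Cfsg.Agent.H679.EPX
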