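import Mathlib
import Cfsg.Prelude.Def_Classical
import Cfsg.Prelude.Def_G2
import Cfsg.Agent.H638.G2Iso

/-!
# Elements of order 5 are not self-centralising (S5745, row `te6.2.O7(3)`)

`M` of order not divisible by 25 with a normal subgroup `A₉`, `PSp₆(2)` or `G₂(3)`.
-/

set_option autoImplicit false

namespace Cfsg.Agent.H679.EPX

section Abs

variable {M : Type*} [Group M] [Finite M]

theorem of_comm (h25 : ¬ 25 ∣ Nat.card M) {y u v : M} (hy : orderOf y = 5) (hu : orderOf u = 5)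
    (huv : v * u = u * v) (hv : v ∉ Subgroup.zpowers u) : ∃ z : M, z * y = y * z ∧ z ∉ Subgroup.zpowers y := by
  have h5 : Fact (Nat.Prime 5) := ⟨Nat.prime_five⟩
  have hs : ∀ w : M, orderOf w = 5 → ∃ S : Sylow 5 M, (S : Subgroup M) = Subgroup.zpowers w := by
    intro w hw
    have hp : IsPGroup 5 (Subgroup.zpowers w) := IsPGroup.of_card (n := 1) (by rw [Nat.card_zpowers, hw, pow_one])
    refine ⟨hp.toSylow fun h => h25 ?_, rfl⟩
    rw [← (Subgroup.zpowers w).card_mul_index, Nat.card_zpowers, hw]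
    exact Nat.mul_dvd_mul_left 5 h
  obtain ⟨S, hS⟩ := hs u hu
  obtain ⟨T, hT⟩ := hs y hy
  obtain ⟨g, hg⟩ := MulAction.exists_smul_eq M S T
  have h1 : (T : Subgroup M) = (Subgroup.zpowers u).map (MulAut.conj g).toMonoidHom := by
    rw [← hg, ← hS]
    rfl
  have h2 : y ∈ (Subgroup.zpowers u).map (MulAut.conj g).toMonoidHom := by
    rw [← h1, hT]
    exact Subgroup.mem_zpowers y
  obtain ⟨_, ⟨m, rfl⟩, hm⟩ := h2
  have hm : g * u ^ m * g⁻¹ = y := hm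
  refine ⟨g * v * g⁻¹, ?_, fun h => hv ?_⟩
  · have h3 : v * u ^ m = u ^ m * v := (Commute.zpow_right (show Commute v u from huv) m).eq
    rw [← hm]
    calc g * v * g⁻¹ * (g * u ^ m * g⁻¹) = g * (v * u ^ m) * g⁻¹ := by group
      _ = g * (u ^ m * v) * g⁻¹ := by rw [h3]
      _ = _ := by group
  · rw [← hT, h1] at h
    obtain ⟨w, hw, e⟩ := h
    have e : g * w * g⁻¹ = g * v * g⁻¹ := e
    have : w = v := mul_left_cancel (mul_right_cancel e)
    rwa [← this]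

omit [Finite M] in
theorem comm_of_norm {y d : M} (hy : y ^ 5 = 1) (hd : orderOf d = 13) (h : y * d * y⁻¹ ∈ Subgroup.zpowers d) :
    y * d = d * y := by
  obtain ⟨k, hk⟩ := h
  have hk : d ^ k = y * d * y⁻¹ := hk
  have h1 : ∀ n : ℕ, y ^ n * d * (y ^ n)⁻¹ = d ^ (k ^ n) := by
    intro n
    induction n with
    | zero => simp
    | succ n ih =>
      have h2 : y ^ (n + 1) * d * (y ^ (n + 1))⁻¹ = y * (y ^ n * d * (y ^ n)⁻¹) * y⁻¹ := by
        rw [pow_succ']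
        group
      rw [h2, ih, ← conj_zpow, ← hk, ← zpow_mul, pow_succ']
  have h2 := h1 5
  rw [hy, one_mul, inv_one, mul_one] at h2
  have h3 : ((orderOf d : ℕ) : ℤ) ∣ k ^ 5 - 1 := by
    rw [orderOf_dvd_iff_zpow_eq_one, zpow_sub, zpow_one, ← h2, mul_inv_cancel]
  have h4 : ((k : ZMod 13)) ^ 5 = 1 := by
    rw [hd] at h3
    have h5 := (ZMod.intCast_zmod_eq_zero_iff_dvd (k ^ 5 - 1) 13).2 h3
    push_cast at h5
    exact sub_eq_zero.1 h5
  have h5 : ∀ a : ZMod 13, a ^ 5 = 1 → a = 1 := by decide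
  have h6 : ((orderOf d : ℕ) : ℤ) ∣ k - 1 := by
    rw [hd]
    apply (ZMod.intCast_zmod_eq_zero_iff_dvd (k - 1) 13).1
    push_cast
    rw [h5 _ h4, sub_self]
  rw [orderOf_dvd_iff_zpow_eq_one, zpow_sub, zpow_one, mul_inv_eq_one] at h6
  rw [h6] at hk
  calc y * d = y * d * y⁻¹ * y := by group
    _ = d * y := by rw [← hk]

theorem of_normal (P : Subgroup M) [P.Normal] (h5 : ¬ 5 ∣ Nat.card P) (h13 : 13 ∣ Nat.card P)
    (h169 : ¬ 169 ∣ Nat.card P) {y : M} (hy : orderOf y = 5) :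
    ∃ z : M, z * y = y * z ∧ z ∉ Subgroup.zpowers y := by
  have hp5 : Fact (Nat.Prime 5) := ⟨Nat.prime_five⟩
  have hp13 : Fact (Nat.Prime 13) := ⟨by norm_num⟩
  let _ : MulDistribMulAction (Subgroup.zpowers y) P := MulDistribMulAction.compHom P
    ((MulAut.conjNormal : M →* MulAut P).comp (Subgroup.zpowers y).subtype)
  have hG : IsPGroup 5 (Subgroup.zpowers y) := IsPGroup.of_card (n := 1) (by rw [Nat.card_zpowers, hy, pow_one])
  obtain ⟨S, hS⟩ := hG.nonempty_fixed_point_of_prime_not_dvd_card (Sylow 13 P) (by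
    intro h
    obtain ⟨S⟩ := (inferInstance : Nonempty (Sylow 13 P))
    exact h5 (h.trans (S.card_dvd_index.trans (Subgroup.index_dvd_card _))))
  obtain ⟨n, hn⟩ := IsPGroup.iff_card.1 S.isPGroup'
  have hidx : ¬ 13 ∣ (S : Subgroup P).index := S.not_dvd_index
  have hn1 : n = 1 := by
    have h1 := (S : Subgroup P).card_mul_index
    have h2 : n ≠ 0 := by
      rintro rfl
      rw [hn, pow_zero, one_mul] at h1
      exact hidx (h1 ▸ h13)
    by_contra h3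
    apply h169
    have h4 : 13 ^ 2 ∣ 13 ^ n := pow_dvd_pow 13 (by omega)
    rw [← h1, hn]
    exact Dvd.dvd.mul_right h4 _
  subst hn1
  obtain ⟨d, hd⟩ := exists_prime_orderOf_dvd_card' (G := (S : Subgroup P)) 13 (by rw [hn, pow_one])
  have hd' : orderOf ((d : P) : M) = 13 := by rw [Subgroup.orderOf_coe, Subgroup.orderOf_coe, hd]
  have hz : Subgroup.zpowers (d : P) = (S : Subgroup P) := by
    refine Subgroup.eq_of_le_of_card_ge ?_ ?_
    · rw [Subgroup.zpowers_le]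
      exact d.2
    · rw [hn, Nat.card_zpowers, Subgroup.orderOf_coe, hd, pow_one]
  have h1 : (⟨y, Subgroup.mem_zpowers y⟩ : Subgroup.zpowers y) • (d : P) ∈ (S : Subgroup P) := by
    have h2 := hS ⟨y, Subgroup.mem_zpowers y⟩
    have h3 : (⟨y, Subgroup.mem_zpowers y⟩ : Subgroup.zpowers y) • (d : P) ∈
        (((⟨y, Subgroup.mem_zpowers y⟩ : Subgroup.zpowers y) • S : Sylow 13 P) : Subgroup P) :=
      Subgroup.smul_mem_pointwise_smul _ _ _ d.2
    rw [h2] at h3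
    exact h3
  have h1' : (⟨y, Subgroup.mem_zpowers y⟩ : Subgroup.zpowers y) • (d : P) ∈ Subgroup.zpowers (d : P) := by
    rw [hz]
    exact h1
  obtain ⟨m, hm⟩ := h1'
  have hm : ((d : P) : M) ^ m = y * ((d : P) : M) * y⁻¹ := congrArg (Subtype.val : P → M) hm
  have h4 := comm_of_norm (y := y) (d := ((d : P) : M)) (by rw [← hy, pow_orderOf_eq_one]) hd' ⟨m, hm⟩
  refine ⟨((d : P) : M), h4.symm, fun h => ?_⟩
  have h5 := orderOf_dvd_of_mem_zpowers h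
  rw [hd', hy] at h5
  omega

end Abs

section Alt

/-- a 5-cycle -/
def c5 : alternatingGroup (Fin 9) :=
  ⟨Equiv.swap 0 1 * Equiv.swap 1 2 * Equiv.swap 2 3 * Equiv.swap 3 4, by
    rw [Equiv.Perm.mem_alternatingGroup]
    simp⟩

/-- a 3-cycle -/
def c3 : alternatingGroup (Fin 9) :=
  ⟨Equiv.swap 5 6 * Equiv.swap 6 7, by
    rw [Equiv.Perm.mem_alternatingGroup]
    simp⟩

theorem order_c5 : orderOf c5 = 5 := by
  have : Fact (Nat.Prime 5) := ⟨Nat.prime_five⟩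
  refine orderOf_eq_prime ?_ ?_
  · apply Subtype.ext
    show (Equiv.swap 0 1 * Equiv.swap 1 2 * Equiv.swap 2 3 * Equiv.swap 3 4 : Equiv.Perm (Fin 9)) ^ 5 = 1
    decide +kernel
  · intro h
    have h1 : (Equiv.swap 0 1 * Equiv.swap 1 2 * Equiv.swap 2 3 * Equiv.swap 3 4 : Equiv.Perm (Fin 9)) = 1 :=
      congrArg Subtype.val h
    exact absurd h1 (by decide +kernel)

theorem order_c3 : orderOf c3 = 3 := by
  have : Fact (Nat.Prime 3) := ⟨Nat.prime_three⟩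
  refine orderOf_eq_prime ?_ ?_
  · apply Subtype.ext
    show (Equiv.swap 5 6 * Equiv.swap 6 7 : Equiv.Perm (Fin 9)) ^ 3 = 1
    decide +kernel
  · intro h
    have h1 : (Equiv.swap 5 6 * Equiv.swap 6 7 : Equiv.Perm (Fin 9)) = 1 := congrArg Subtype.val h
    exact absurd h1 (by decide +kernel)

theorem comm_c : c3 * c5 = c5 * c3 := by
  apply Subtype.ext
  show (Equiv.swap 5 6 * Equiv.swap 6 7 * (Equiv.swap 0 1 * Equiv.swap 1 2 * Equiv.swap 2 3 * Equiv.swap 3 4) :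
    Equiv.Perm (Fin 9)) = Equiv.swap 0 1 * Equiv.swap 1 2 * Equiv.swap 2 3 * Equiv.swap 3 4 *
      (Equiv.swap 5 6 * Equiv.swap 6 7)
  decide +kernel

end Alt

section Sp

/-- the numbering -/
def jx : Fin 3 ⊕ Fin 3 → Fin 6
  | .inl i => ![0, 1, 2] i
  | .inr i => ![3, 4, 5] i

/-- the matrix of a table -/
def mk6 (M : Matrix (Fin 6) (Fin 6) (ZMod 2)) : Matrix (Fin 3 ⊕ Fin 3) (Fin 3 ⊕ Fin 3) (ZMod 2) :=
  fun i j => M (jx i) (jx j)

/-- an element of order 5 -/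
def sU : Matrix (Fin 6) (Fin 6) (ZMod 2) := ![![0, 0, 0, 0, 1, 0], ![0, 0, 0, 1, 1, 0], ![0, 0, 1, 0, 0, 0], ![1, 1, 0, 0, 1, 0], ![1, 0, 0, 1, 1, 0], ![0, 0, 0, 0, 0, 1]]

/-- its square -/
def sU2 : Matrix (Fin 6) (Fin 6) (ZMod 2) := ![![1, 0, 0, 1, 1, 0], ![0, 1, 0, 1, 0, 0], ![0, 0, 1, 0, 0, 0], ![1, 0, 0, 0, 1, 0], ![0, 1, 0, 1, 1, 0], ![0, 0, 0, 0, 0, 1]]

/-- its fourth power -/
def sU4 : Matrix (Fin 6) (Fin 6) (ZMod 2) := ![![0, 1, 0, 0, 1, 0], ![1, 1, 0, 1, 1, 0], ![0, 0, 1, 0, 0, 0], ![1, 1, 0, 0, 0, 0], ![1, 0, 0, 0, 0, 0], ![0, 0, 0, 0, 0, 1]]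

/-- an element of order 3 -/
def sV : Matrix (Fin 6) (Fin 6) (ZMod 2) := ![![1, 0, 0, 0, 0, 0], ![0, 1, 0, 0, 0, 0], ![0, 0, 0, 0, 0, 1], ![0, 0, 0, 1, 0, 0], ![0, 0, 0, 0, 1, 0], ![0, 0, 1, 0, 0, 1]]

/-- its square -/
def sV2 : Matrix (Fin 6) (Fin 6) (ZMod 2) := ![![1, 0, 0, 0, 0, 0], ![0, 1, 0, 0, 0, 0], ![0, 0, 1, 0, 0, 1], ![0, 0, 0, 1, 0, 0], ![0, 0, 0, 0, 1, 0], ![0, 0, 1, 0, 0, 0]]

/-- a permutation -/
def sW : Matrix (Fin 6) (Fin 6) (ZMod 2) := ![![0, 0, 1, 0, 0, 0], ![0, 1, 0, 0, 0, 0], ![1, 0, 0, 0, 0, 0], ![0, 0, 0, 0, 0, 1], ![0, 0, 0, 0, 1, 0], ![0, 0, 0, 1, 0, 0]]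


open Matrix

/-- the symplectic group -/
abbrev Sp6 : Type := ↥(Matrix.symplecticGroup (Fin 3) (ZMod 2))

/-- the element of order 5 -/
def gU : Sp6 := ⟨mk6 sU, by rw [SymplecticGroup.mem_iff]; decide +kernel⟩

/-- the element of order 3 -/
def gV : Sp6 := ⟨mk6 sV, by rw [SymplecticGroup.mem_iff]; decide +kernel⟩

/-- the permutation -/
def gW : Sp6 := ⟨mk6 sW, by rw [SymplecticGroup.mem_iff]; decide +kernel⟩

theorem gU_pow : gU ^ 5 = 1 := by
  apply Subtype.ext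
  show mk6 sU ^ 5 = 1
  have h2 : mk6 sU ^ 2 = mk6 sU2 := by rw [sq]; decide +kernel
  have h4 : mk6 sU2 ^ 2 = mk6 sU4 := by rw [sq]; decide +kernel
  have h5 : mk6 sU ^ 5 = (mk6 sU ^ 2) ^ 2 * mk6 sU := by rw [← pow_mul, ← pow_succ]
  rw [h5, h2, h4]
  decide +kernel

theorem gV_pow : gV ^ 3 = 1 := by
  apply Subtype.ext
  show mk6 sV ^ 3 = 1
  have h2 : mk6 sV ^ 2 = mk6 sV2 := by rw [sq]; decide +kernel
  rw [pow_succ, h2]
  decide +kernel

theorem gUV : gV * gU = gU * gV := by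
  apply Subtype.ext
  show mk6 sV * mk6 sU = mk6 sU * mk6 sV
  decide +kernel

theorem gU_not : gU ∉ Subgroup.center Sp6 := by
  intro h
  have h1 := congrArg Subtype.val ((Subgroup.mem_center_iff.1 h) gW)
  have h2 : mk6 sW * mk6 sU = mk6 sU * mk6 sW := h1
  exact absurd h2 (by decide +kernel)

theorem gV_not : gV ∉ Subgroup.center Sp6 := by
  intro h
  have h1 := congrArg Subtype.val ((Subgroup.mem_center_iff.1 h) gW)
  have h2 : mk6 sW * mk6 sV = mk6 sV * mk6 sW := h1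
  exact absurd h2 (by decide +kernel)

theorem sp_elts : ∃ u v : Cfsg.PSp 3 (ZMod 2), orderOf u = 5 ∧ orderOf v = 3 ∧ v * u = u * v := by
  have : Fact (Nat.Prime 3) := ⟨Nat.prime_three⟩
  have : Fact (Nat.Prime 5) := ⟨Nat.prime_five⟩
  refine ⟨QuotientGroup.mk' _ gU, QuotientGroup.mk' _ gV, orderOf_eq_prime ?_ ?_, orderOf_eq_prime ?_ ?_, ?_⟩
  · rw [← map_pow, gU_pow, map_one]
  · intro h
    rw [← MonoidHom.mem_ker, QuotientGroup.ker_mk'] at h
    exact gU_not h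
  · rw [← map_pow, gV_pow, map_one]
  · intro h
    rw [← MonoidHom.mem_ker, QuotientGroup.ker_mk'] at h
    exact gV_not h
  · rw [← map_mul, ← map_mul, gUV]

end Sp

theorem of_elts {M : Type*} [Group M] [Finite M] {P : Subgroup M} {T : Type*} [Group T] (e : P ≃* T) {u v : T}
    (hu : orderOf u = 5) (hv : orderOf v = 3) (huv : v * u = u * v) (h25 : ¬ 25 ∣ Nat.card M) {y : M}
    (hy : orderOf y = 5) : ∃ z : M, z * y = y * z ∧ z ∉ Subgroup.zpowers y := by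
  have hu' : orderOf ((e.symm u : P) : M) = 5 := by rw [Subgroup.orderOf_coe, MulEquiv.orderOf_eq, hu]
  have hv' : orderOf ((e.symm v : P) : M) = 3 := by rw [Subgroup.orderOf_coe, MulEquiv.orderOf_eq, hv]
  refine of_comm h25 hy hu' (v := ((e.symm v : P) : M)) ?_ fun h => ?_
  · rw [← Subgroup.coe_mul, ← Subgroup.coe_mul, ← map_mul, ← map_mul, huv]
  · have h5 := orderOf_dvd_of_mem_zpowers h
    rw [hu', hv'] at h5
    omega

/-- **Elements of order 5 are not self-centralising.** -/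
theorem resid {M : Type} [Group M] [Finite M] (P : Subgroup M) [P.Normal] (h25 : ¬ 25 ∣ Nat.card M) (y : M)
    (hy : orderOf y = 5) (hP : Nonempty (P ≃* alternatingGroup (Fin 9)) ∨ Nonempty (P ≃* Cfsg.PSp 3 (ZMod 2)) ∨
      Nonempty (P ≃* Cfsg.Lie.G2 (ZMod 3))) : ∃ z : M, z * y = y * z ∧ z ∉ Subgroup.zpowers y := by
  rcases hP with ⟨⟨e⟩⟩ | ⟨⟨e⟩⟩ | ⟨⟨e⟩⟩
  · exact of_elts e order_c5 order_c3 comm_c h25 hy
  · obtain ⟨u, v, hu, hv, huv⟩ := sp_elts
    exact of_elts e hu hv huv h25 hy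
  · have hc : Nat.card P = 4245696 := by
      rw [Nat.card_congr e.toEquiv, H638.G2Iso.card_G2 (F := ZMod 3), Nat.card_zmod]
      norm_num
    refine of_normal P ?_ ?_ ?_ hy
    · rw [hc]; norm_num
    · rw [hc]; norm_num
    · rw [hc]; norm_num

end Cfsg.Agent.H679.EPX
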