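import Cfsg.Agent.H897.Data

/-!
# `²E₆(2)` has no elements of order 26 (S5745, row `te6.2.O7(3)`)

An element of order 13 is regular in a frame, its centraliser lies in a torus, whose elements have odd
order.
-/

set_option autoImplicit false
set_option linter.unusedSectionVars false

namespace Cfsg.Agent.H679.EPX

open CoxeterSystem Cfsg Cfsg.Lie Cfsg.Agent.ChevalleyStructure Cfsg.Agent.ChevalleyStructure.Elts
  Cfsg.Agent.ChevalleyStructure.CoxeterGeom Cfsg.Agent.ChevalleyStructure.CoxeterGeomTypes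
  Cfsg.Agent.Tits.Roots
  Cfsg.Agent.Tits.Core Cfsg.Agent.Nodes.Reps
  Cfsg.Agent.Nodes.BNOf Cfsg.Agent.Nodes.RGDChev Cfsg.Agent.KFacts.RgdField Cfsg.Agent.KFacts.RgdChevCoord
  Cfsg.Agent.BpExc.Tow Cfsg.Agent.BpExc.TowChev Cfsg.Agent.BpExc.LangFr Cfsg.Agent.BpExc.Fr
  Cfsg.Agent.BpExc.TorCent Cfsg.Agent.H897.Lat Cfsg.Agent.H897.Sg Cfsg.Agent.H897.Tor Cfsg.Agent.H897.Cen
  Cfsg.Agent.H897.Orb Cfsg.Agent.H897.Emb Cfsg.Agent.H897.Frm Cfsg.Agent.H897.Cas Cfsg.Agent.H897.Syl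
  Cfsg.Agent.H897.Data
open Cfsg.Agent.BpExc.FamTw.Six (em coe_em em_injective sig_em)

universe u v

section Clo

variable {K : Type u} [Field K] [Fintype K] (hK : Fintype.card K = 4) {k : Type v} [Field k] [CharP k 2]
  [IsAlgClosed k] (hk : LocFin k) (f : K →+* k)

include hK hk f in
/-- An element commuting with an element of order 13 lies in a torus of the algebraic group. -/
theorem cent_thirteen (x t : ↥(twistedE6 K 2)) (hx : orderOf x = 13) (hc : t * x = x * t) :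
    ∃ z s, s ∈ TT chevE6 k ∧ em 2 f t = z * s * z⁻¹ := by
  have h13 : Nat.Prime 13 := by norm_num
  obtain ⟨ζ, hζ⟩ := exists_prim (k := k) (l := 13) (by norm_num)
  have hζ0 : ζ ≠ 0 := hζ.ne_zero (by norm_num)
  have hP : IsPGroup 13 (Subgroup.zpowers x) :=
    IsPGroup.of_card (n := 1) (by rw [Nat.card_zpowers, hx, pow_one])
  have hP1 : Subgroup.zpowers x ≠ ⊥ := by
    intro h
    rw [Subgroup.zpowers_eq_bot] at h
    rw [h, orderOf_one] at hx
    omega
  obtain ⟨z, hz, hPm⟩ := exists_frame_one hK hk f ws13_mem h13 (by norm_num) (by norm_num) hζ c13_fix c13_ne hP hP1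
  have h2 : z * tz ζ c13 * z⁻¹ ∈ (Subgroup.zpowers (tz ζ c13)).map (MulAut.conj z).toMonoidHom :=
    ⟨tz ζ c13, Subgroup.mem_zpowers _, rfl⟩
  rw [← hPm] at h2
  obtain ⟨_, ⟨m, rfl⟩, e⟩ := h2
  have e : em 2 f (x ^ m) = z * tz ζ c13 * z⁻¹ := e
  have hcm : t * x ^ m = x ^ m * t := (Commute.zpow_right (show Commute t x from hc) m).eq
  have h3 : em 2 f t * (z * tz ζ c13 * z⁻¹) = z * tz ζ c13 * z⁻¹ * em 2 f t := by
    rw [← e, ← map_mul, ← map_mul, hcm]
  refine ⟨z, z⁻¹ * em 2 f t * z, ?_, by group⟩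
  refine cent_reg hk h13 (by norm_num) (S := {tz ζ c13}) (Set.finite_singleton _) ?_ ?_ ?_ ?_
  · rintro s rfl
    exact (tz_spec (ζ := ζ) hζ0 c13).1
  · rintro s rfl
    exact tz_pow_eq_one hk (by norm_num) hζ c13
  · intro a ha
    refine ⟨tz ζ c13, rfl, ?_⟩
    rw [ch_tz hk hζ0 _ ha, Ne, hζ.zpow_eq_one_iff_dvd]
    exact c13_reg a ha
  · rintro s rfl
    calc z⁻¹ * em 2 f t * z * tz ζ c13 = z⁻¹ * (em 2 f t * (z * tz ζ c13 * z⁻¹)) * z := by group
      _ = z⁻¹ * (z * tz ζ c13 * z⁻¹ * em 2 f t) * z := by rw [h3]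
      _ = _ := by group

end Clo

/-- **`²E₆(2)` has no elements of order 26.** -/
theorem no26 {K : Type*} [Field K] [Fintype K] (hK : Fintype.card K = 4) (x t : ↥(Cfsg.Lie.twistedE6 K 2))
    (hx : orderOf x = 13) (ht : t * t = 1) (hc : t * x = x * t) : t = 1 := by
  classical
  have hchar : CharP K 2 := by
    obtain ⟨q, hq⟩ := CharP.exists K
    have hqp : q.Prime := CharP.char_is_prime K q
    obtain ⟨n, -, hn⟩ := FiniteField.card K q
    rw [hK] at hn
    have h1 : q ∣ 2 ^ 2 := by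
      have : q ∣ q ^ (n : ℕ) := dvd_pow_self q n.ne_zero
      rw [← hn] at this
      exact this
    have h2 : q = 2 := (Nat.prime_dvd_prime_iff_eq hqp Nat.prime_two).1 (hqp.dvd_of_dvd_pow h1)
    rwa [← h2]
  let _ : Algebra (ZMod 2) K := ZMod.algebra K 2
  have hfin : Module.Finite (ZMod 2) K := Module.Finite.of_finite
  have halg : Algebra.IsAlgebraic (ZMod 2) K := Algebra.IsAlgebraic.of_finite (ZMod 2) K
  let f : K →ₐ[ZMod 2] AlgebraicClosure (ZMod 2) := IsAlgClosed.lift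
  have hk : LocFin (AlgebraicClosure (ZMod 2)) := locFin_of_isAlgebraic 2 _
  obtain ⟨z, s, hs, e⟩ := cent_thirteen hK hk (f : K →+* AlgebraicClosure (ZMod 2)) x t hx hc
  obtain ⟨m, hm, hsm⟩ := exists_odd (tw cs0 hk) ((mem_T hk).2 hs)
  have hs2 : s ^ 2 = 1 := by
    have h1 : em 2 (f : K →+* AlgebraicClosure (ZMod 2)) t ^ 2 = 1 := by
      rw [← map_pow, sq, ht, map_one]
    rw [e, conj_pow] at h1
    have h2 : z * s ^ 2 * z⁻¹ = z * 1 * z⁻¹ := by rw [h1]; group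
    exact conj_inj h2
  have hs1 : s = 1 := by
    have h3 := Nat.dvd_gcd (orderOf_dvd_of_pow_eq_one hsm) (orderOf_dvd_of_pow_eq_one hs2)
    rw [hm, Nat.dvd_one] at h3
    exact orderOf_eq_one_iff.1 h3
  apply em_injective (K := K) (q := 2) (f : K →+* AlgebraicClosure (ZMod 2))
  rw [e, hs1, map_one]
  group

end Cfsg.Agent.H679.EPX
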